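import Groth.Agent.VBPn.K699.WronSimple
import Groth.Agent.VBPn.K699.Euler
import Groth.Agent.FormalA.HHLin
import Groth.Agent.VBPn.K700.PicVan

/-!
# Endomorphisms of `Ω` and null-correlation bundles on `P^n_k`

* `IsSc r φ`: `φ` is the homothety by the global function `r`; `IsSc.of_epi`, `IsSc.of_mono`, `IsSc.of_iso`.
* `K n k h = ker ((x_0, …, x_n) : O(m)^{n+1} ⟶ O(m'))`, `m' = m + 1`: endomorphisms are homotheties (`simple_K`),
  `Ext¹(K, O(c)) = 0` (`ext_K`).
* `nonempty_tw_iso`: `Ω ⊗ O(1) ≅ K` with `m = 0`.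
-/

set_option autoImplicit false

universe u

open CategoryTheory CategoryTheory.Limits AlgebraicGeometry Opposite TopologicalSpace

namespace K134.Null

open Groth.Agent Groth.Agent.Divis.ProjPic Groth.Agent.VarietyB.TwistMul K699.TwHom Groth.Agent.Sga67.Sec
open K699.GMat K699.LinForm K699.WronEx K699.Scalar K699.Wron K699.WronSimple K699.KerSplit

attribute [local instance] Abelian.hasFiniteBiproducts

section Sc

variable {n : ℕ} {k : Type u} [Field k]

/-- `φ` is the homothety by the scalar `c`. -/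
def IsSc (c : k) {M : (Proj (gr n k)).Modules} (φ : M ⟶ M) : Prop :=
  ∀ (U : (Proj (gr n k)).Opens) (s : Sec M U), appS φ U s = sc c U • s

variable {c : k} {M N : (Proj (gr n k)).Modules}

theorem res_sc (c : k) {U V : (Proj (gr n k)).Opens} (h : V ≤ U) : resO (Proj (gr n k)) h (sc c U) = sc c V :=
  resO_resO (X := Proj (gr n k)) le_top h _

theorem IsSc.toSheaf {φ : M ⟶ M} (h : IsSc c φ) : (SheafOfModules.toSheaf (Proj (gr n k)).ringCatSheaf).map φ =
    Coh.smulAb M (Coh.toGlobal (X := Proj (gr n k)) (CohB1.ProjSpace.toSpec n k) c) :=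
  toSheaf_map_eq φ c h

theorem IsSc.of_epi {φ : M ⟶ M} {ψ : N ⟶ N} (π : M ⟶ N) [Epi π] (w : π ≫ ψ = φ ≫ π) (h : IsSc c φ) : IsSc c ψ := by
  intro U s
  refine eq_of_locally N fun x hx => ?_
  obtain ⟨V, hV, hxV, t, ht⟩ := locally_surjective_of_epi π s x hx
  refine ⟨V, hV, hxV, ?_⟩
  have h1 := congrArg (fun f => appS f V t) w
  have h2 : appS ψ V (appS π V t) = appS π V (appS φ V t) := h1
  rw [← appS_res, res_smul, ← ht, h2, h V t, map_smul, res_sc]

theorem IsSc.of_mono {φ : M ⟶ M} {ψ : N ⟶ N} (π : N ⟶ M) [Mono π] (w : ψ ≫ π = π ≫ φ) (h : IsSc c φ) : IsSc c ψ := by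
  intro U s
  apply injective_of_mono π U
  have h1 := congrArg (fun f => appS f U s) w
  have h2 : appS π U (appS ψ U s) = appS φ U (appS π U s) := h1
  rw [h2, h, map_smul]

theorem exists_isSc_of_iso (e : M ≅ N) (h : ∀ φ : M ⟶ M, ∃ c : k, IsSc c φ) (ψ : N ⟶ N) : ∃ c : k, IsSc c ψ := by
  obtain ⟨r, hr⟩ := h (e.hom ≫ ψ ≫ e.inv)
  exact ⟨r, IsSc.of_epi e.hom (by simp) hr⟩

end Sc

section Ext

open CategoryTheory.Abelian

variable {n : ℕ} {R : Type u} [CommRing R]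

theorem ext_O [HasExt.{u + 1} (Proj (gr n R)).Modules] (a b : ℤ) (i : ℕ) (h0 : 0 < i)
    (h1 : ¬ (i = n ∧ b - a ≤ -((n : ℤ) + 1))) :
    Subsingleton (Ext.{u + 1} (T n R a) (T n R b) i) := by
  obtain ⟨e1⟩ := Gaga.H883.Serre.O_mul n R (-a) a
  obtain ⟨e2⟩ := Gaga.H883.Serre.O_mul n R b (-a)
  obtain ⟨e0⟩ := Gaga.H883.Serre.O_zero n R
  rw [neg_add_cancel] at e1
  refine K699.ExtTw.subsingleton_ext (X := Proj (gr n R)) (A := T n R (-a)) (B := T n R a) (e1 ≪≫ e0) (T n R b) i ?_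
  exact Gaga.H883.Serre.HH_congr e2.symm i (S0844.result R n _ i (by omega) (by omega))

end Ext

variable {n : ℕ} {k : Type u} [Field k] {m m' : ℤ}

/-- The kernel of `(x_0, …, x_n) : O(m)^{n+1} ⟶ O(m')`. -/
noncomputable abbrev K (n : ℕ) (k : Type u) [Field k] {m m' : ℤ} (h : m + (1 : ℕ) = m') : (Proj (gr n k)).Modules :=
  kernel (row h (xf (n := n) (R := k)))

theorem ext_K [HasExt.{u + 1} (Proj (gr n k)).Modules] (h : m + (1 : ℕ) = m') (c : ℤ) (hc : -1 ≤ c - m) :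
    Subsingleton (Abelian.Ext.{u + 1} (K n k h) (T n k c) 1) := by
  refine K697.ExtHom.subsingleton_fst (shortExact₂ (n := n) (k := k) h) (m := 2) rfl ?_ ?_
  · exact K699.ExtTw.subsingleton_biproduct_left _ _ _ fun i => ext_O m c 1 one_pos (by omega)
  · exact ext_O m' c 2 two_pos (by push_cast at h; omega)

theorem simple_K_aux (h : m + (1 : ℕ) = m') (φ : K n k h ⟶ K n k h) :
    ∃ c : k, φ ≫ kernel.ι _ = kernel.ι _ ≫ gm (h00 m) (scm (Fin (n + 1)) c) := by
  have := HasExt.standard (Proj (gr n k)).Modules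
  have h2 := shortExact₂ (n := n) (k := k) h
  have := h2.epi_g
  let x : OO n k (Fin (n + 1)) m ⟶ T n k m' := row h (xf (n := n) (R := k))
  obtain ⟨B, hB⟩ := exists_desc' (kernel.ι x) x (kernel.condition x) h2
    (K699.ExtTw.subsingleton_biproduct_right _ _ _ fun _ : Fin (n + 1) =>
      ext_O (n := n) (R := k) m' m 1 one_pos (by push_cast at h; omega)) (φ ≫ kernel.ι x)
  have hBx : kernel.ι x ≫ B ≫ x = 0 := by
    rw [← Category.assoc, hB, Category.assoc, kernel.condition, comp_zero]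
  let C : T n k m' ⟶ T n k m' := h2.exact.desc (B ≫ x) hBx
  have hC : x ≫ C = B ≫ x := h2.exact.g_desc (B ≫ x) hBx
  obtain ⟨B₀, hB₀⟩ := exists_gm (h00 m) B
  obtain ⟨C₀, hC₀⟩ := exists_mulMap (h00 m') C
  have e1 := gm_row (h00 m) h h B₀ xf
    (fun i => ⟨∑ j, (B₀ i j).1 * (xf (n := n) (R := k) j).1, by
      refine Submodule.sum_mem _ fun j _ => ?_
      have := MvPolynomial.IsHomogeneous.mul (B₀ i j).2 (xf (n := n) (R := k) j).2
      simpa using this⟩) fun i => rfl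
  have e2 := row_mulMap h (h00 m') h xf C₀
    (fun i => ⟨(xf (n := n) (R := k) i).1 * C₀.1, by
      have := MvPolynomial.IsHomogeneous.mul (xf (n := n) (R := k) i).2 C₀.2
      simpa using this⟩) fun i => rfl
  rw [hB₀, hC₀] at hC
  have h1 := row_injective _ (e1.symm.trans (hC.symm.trans e2))
  obtain ⟨c, hc⟩ := eq_scm_of_X (B := B₀) (C := C₀) fun i => congrArg Subtype.val (congrFun h1 i)
  refine ⟨c, ?_⟩
  rw [← hB, hB₀, hc]

theorem isSc_gm (m : ℤ) (c : k) : IsSc c (gm (n := n) (h00 m) (scm (Fin (n + 1)) c)) :=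
  fun U s => appS_gm_scm (h00 m) c U s

theorem simple_K (h : m + (1 : ℕ) = m') (φ : K n k h ⟶ K n k h) : ∃ c : k, IsSc c φ := by
  obtain ⟨c, hc⟩ := simple_K_aux h φ
  exact ⟨c, IsSc.of_mono (kernel.ι _) hc (isSc_gm m c)⟩

theorem simple_omega (φ : Omega.sheaf (CohB1.ProjSpace.toSpec n k) ⟶ Omega.sheaf (CohB1.ProjSpace.toSpec n k)) :
    ∃ c : k, IsSc c φ := by
  obtain ⟨e⟩ := K699.Euler.nonempty_omega_iso n k
  exact exists_isSc_of_iso e.symm (simple_K K699.Euler.hneg) φ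

end K134.Null
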