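import Groth.Agent.VBPn.K134.Null2
import Groth.Agent.Dcoh.FTFP

/-!
# Existence of null-correlation bundles on `P^n_k`, `n` odd

* `v : O(-1) ⟶ K(0)`, given by `A_{2i} = X_{2i+1}`, `A_{2i+1} = -X_{2i}`; `mono_v`; `rank_coker_v`.
* `exists_null`: a monomorphism `O(-1) ⟶ Ω(1)` with finite locally free cokernel of rank `n - 1`.
-/

set_option autoImplicit false

universe u

open CategoryTheory CategoryTheory.Limits AlgebraicGeometry Opposite TopologicalSpace

namespace K134.Null3

open Groth.Agent Groth.Agent.Divis.ProjPic Groth.Agent.VarietyB.TwistMul K699.TwHom Groth.Agent.Sga67.Sec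
open K699.GMat K699.LinForm K699.WronEx K699.Scalar K699.Wron K699.WronSimple K699.KerSplit
open K134.Null K134.Null2
open Groth.Agent.CycB.StalkExact Groth.Agent.Dcoh.StalkFF

attribute [local instance] Abelian.hasFiniteBiproducts

variable {n : ℕ} {k : Type u} [Field k]

/-- The partner of an index. -/
def sg (hn : Odd n) (j : Fin (n + 1)) : Fin (n + 1) :=
  ⟨if (j : ℕ) % 2 = 0 then j + 1 else j - 1, by
    obtain ⟨t, rfl⟩ := hn
    have := j.2
    split_ifs <;> omega⟩

theorem sg_val (hn : Odd n) (j : Fin (n + 1)) : (sg hn j : ℕ) = if (j : ℕ) % 2 = 0 then (j : ℕ) + 1 else j - 1 := rfl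

theorem sg_sg (hn : Odd n) (j : Fin (n + 1)) : sg hn (sg hn j) = j := by
  apply Fin.ext
  rw [sg_val, sg_val]
  split_ifs <;> omega

theorem sg_mod (hn : Odd n) (j : Fin (n + 1)) : (sg hn j : ℕ) % 2 = 0 ↔ (j : ℕ) % 2 ≠ 0 := by
  rw [sg_val]
  split_ifs <;> omega

theorem sg_ne (hn : Odd n) (j : Fin (n + 1)) : sg hn j ≠ j := by
  intro h
  have h1 := sg_mod hn j
  rw [h] at h1
  omega

/-- The skew form. -/
noncomputable def A (hn : Odd n) (j : Fin (n + 1)) : gr n k 1 :=
  if (j : ℕ) % 2 = 0 then xf (sg hn j) else -xf (sg hn j)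

theorem A_val (hn : Odd n) (j : Fin (n + 1)) :
    (A (k := k) hn j).1 = if (j : ℕ) % 2 = 0 then MvPolynomial.X (sg hn j) else -MvPolynomial.X (sg hn j) := by
  rw [A]
  split_ifs <;> rfl

theorem sum_A (hn : Odd n) : ∑ j, (A (k := k) hn j).1 * MvPolynomial.X j = 0 := by
  refine Finset.sum_involution (fun j _ => sg hn j) (fun j _ => ?_) (fun j _ _ => sg_ne hn j)
    (fun j _ => Finset.mem_univ _) (fun j _ => sg_sg hn j)
  rw [A_val, A_val, sg_sg]
  have := sg_mod hn j
  by_cases h : (j : ℕ) % 2 = 0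
  · rw [if_pos h, if_neg (by tauto)]
    ring
  · rw [if_neg h, if_pos (by tauto)]
    ring

theorem A_notMem (hn : Odd n) (j : Fin (n + 1)) (x : ProjectiveSpectrum (gr n k))
    (h : (MvPolynomial.X (sg hn j) : MvPolynomial (Fin (n + 1)) k) ∉ x.asHomogeneousIdeal) :
    (A (k := k) hn j).1 ∉ x.asHomogeneousIdeal := by
  rw [A_val]
  split_ifs
  · exact h
  · exact fun hc => h ((Ideal.neg_mem_iff _).mp hc)

theorem exists_A_notMem (hn : Odd n) (x : ProjectiveSpectrum (gr n k)) :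
    ∃ j, (A (k := k) hn j).1 ∉ x.asHomogeneousIdeal := by
  obtain ⟨a, ha⟩ := K699.KoszulP1.exists_xf_notMem (R := k) x
  refine ⟨sg hn a, A_notMem hn _ x ?_⟩
  rw [sg_sg]
  exact ha

theorem col_comp_row (hn : Odd n) :
    col K699.Euler.hneg (A (k := k) hn) ≫ row h01 (xf (n := n) (R := k)) = 0 := by
  refine hom_ext fun U s => evT_ext fun x hx => ?_
  have h1 : appS (col K699.Euler.hneg (A (k := k) hn) ≫ row h01 (xf (n := n) (R := k))) U s =
    appS (row h01 xf) U (appS (col K699.Euler.hneg (A hn)) U s) := rfl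
  rw [h1, evT_row, appS_zero]
  have h2 := congrArg (al x) (sum_A (k := k) hn)
  rw [map_sum, map_zero] at h2
  have h3 : ∀ j, al x (xf (R := k) j).1 * val (appS (col K699.Euler.hneg (A (k := k) hn)) U s) x hx j =
      al x ((A (k := k) hn j).1 * MvPolynomial.X j) * evT s x hx := by
    intro j
    rw [val_col, map_mul]
    change al x (MvPolynomial.X j) * _ = _
    ring
  rw [Finset.sum_congr rfl fun j _ => h3 j, ← Finset.sum_mul, h2, zero_mul]
  rfl

/-- The map `O(-1) ⟶ K(0)`. -/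
noncomputable def v (k : Type u) [Field k] (hn : Odd n) : T n k (-1) ⟶ K n k h01 :=
  kernel.lift _ (col K699.Euler.hneg (A (k := k) hn)) (col_comp_row hn)

theorem v_comp (hn : Odd n) (j : Fin (n + 1)) :
    v k hn ≫ (kernel.ι (row h01 (xf (n := n) (R := k))) ≫ pr 0 j) = mulMap (A hn j) K699.Euler.hneg := by
  rw [← Category.assoc, v, kernel.lift_ι, col, biproduct.lift_π]

theorem mono_mulMap {d : ℕ} {m m' : ℤ} (a : gr n k d) (ha : a.1 ≠ 0) (h : m + d = m') : Mono (mulMap a h) := by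
  refine mono_of_locally_injective _ fun x U hx => ⟨U, le_rfl, hx, fun s hs => evT_ext fun y hy => ?_⟩
  have h1 : al y a.1 * evT s y hy = 0 := congrArg (fun t => evT t y hy) hs
  have : IsDomain (Twist.Loc (gr n k) y) :=
    IsLocalization.isDomain_localization (Ideal.primeCompl_le_nonZeroDivisors _)
  exact (mul_eq_zero.mp h1).resolve_left (fun h => ha (al_injective y (h.trans (map_zero _).symm)))

instance mono_v (hn : Odd n) : Mono (v k hn) := by
  obtain ⟨j, hj⟩ := exists_A_notMem hn (pt (n := n) (k := k) (fun _ => 1) (fun h => one_ne_zero (congrFun h 0)))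
  have h1 : (A (k := k) hn j).1 ≠ 0 := fun h => hj (by rw [h]; exact Ideal.zero_mem _)
  have h2 := mono_mulMap (A (k := k) hn j) h1 K699.Euler.hneg
  have h3 : Mono (v k hn ≫ (kernel.ι (row h01 (xf (n := n) (R := k))) ≫ pr 0 j)) := by
    rw [v_comp]
    exact h2
  exact mono_of_mono (v k hn) (kernel.ι (row h01 (xf (n := n) (R := k))) ≫ pr 0 j)

theorem rank_K (n : ℕ) (k : Type u) [Field k] {m m' : ℤ} (h : m + (1 : ℕ) = m') :
    FlatMod.IsFinLocFreeOfRank n (K n k h) :=
  Krr.H487.KerRank.isFinLocFreeOfRank_left (shortExact₂ (n := n) (k := k) h) (m := 1)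
    (K699.RankOO.rank_OO (by simp) m) (K699.RankOO.rank_T m')

theorem ff_coker (hn : Odd n) (x : Proj (gr n k)) : FF (cokernel (v k hn)) x := by
  obtain ⟨j, hj⟩ := exists_A_notMem (k := k) hn x
  let w : K n k h01 ⟶ T n k 0 := kernel.ι (row h01 (xf (n := n) (R := k))) ≫ pr 0 j
  let μ : T n k (-1) ⟶ T n k 0 := mulMap (A hn j) K699.Euler.hneg
  have hw : v k hn ≫ w = μ := v_comp hn j
  have hbij : Function.Bijective (stalkLin μ x) :=
    (ConcreteCategory.isIso_iff_bijective _).mp (Fga.RegSec.isIso_stalk_of_bijective μ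
      (Proj.basicOpen (gr n k) (A (k := k) hn j).1) (fun V hV => mulMap_app_bijective _ _ V hV) hj)
  let e := LinearEquiv.ofBijective (stalkLin μ x) hbij
  obtain ⟨h1, h2⟩ := FF_of_isFinLocFree (Krr.H487.KerRank.isFinLocFree_of_rank (rank_K n k h01)) x
  refine K654.MonoLF.free_of_exact_split (stalkLin (v k hn) x) (stalkLin (cokernel.π (v k hn)) x)
    (K654.MonoLF.stalk_cokernel_exact (v k hn) x) (stalkLin_surjective _ x)
    (e.symm.toLinearMap ∘ₗ stalkLin w x) (LinearMap.ext fun t => ?_)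
  change e.symm (stalkLin w x (stalkLin (v k hn) x t)) = t
  rw [LinearEquiv.symm_apply_eq]
  have h3 := LinearMap.congr_fun (stalkLin_comp (v k hn) w x) t
  rw [hw] at h3
  exact h3.symm

theorem rank_coker_v (hn : Odd n) : FlatMod.IsFinLocFreeOfRank (n - 1) (cokernel (v k hn)) := by
  have hT : FlatMod.IsFinLocFreeOfRank 1 (T n k (-1)) := K699.RankOO.rank_T (-1)
  have hK := rank_K n k h01
  have hC := K654.MonoLF.isFinLocFree_cokernel (U := T n k (-1))
    (Groth.Agent.Dcoh.FTFP.isFT_of_epi_finLocFree (Krr.H487.KerRank.isFinLocFree_of_rank hT) (𝟙 _))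
    (Krr.H487.KerRank.isFinLocFree_of_rank hK) (v k hn) (ff_coker hn)
  apply Krr.H487.KerRank.isFinLocFreeOfRank_of_forall hC
  intro x U r b hx hb
  obtain ⟨V, hV, c, hc⟩ := (Krr.H487.KerRank.isFinLocFreeOfRank_iff _).mp hT x
  obtain ⟨W, d, hxW, hd⟩ := Krr.H487.KerRank.exists_basis_mid (shortExact_coker (v k hn)) hc hV hb hx
  obtain ⟨W', hW', e, he⟩ := (Krr.H487.KerRank.isFinLocFreeOfRank_iff _).mp hK x
  have := Krr.H487.KerRank.card_eq hd he x hxW hW'
  simp only [Fintype.card_sum, Fintype.card_fin] at this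
  omega

theorem exists_null (hn : Odd n) : ∃ u : T n k (-1) ⟶ M1 n k,
    Mono u ∧ FlatMod.IsFinLocFreeOfRank (n - 1) (cokernel u) := by
  obtain ⟨e⟩ := nonempty_M1 n k
  exact ⟨v k hn ≫ e.inv, mono_comp _ _,
    Krr.H487.KerRank.isFinLocFreeOfRank_of_iso (cokernelCompIsIso (v k hn) e.inv).symm (rank_coker_v hn)⟩

end K134.Null3
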