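import Groth.Agent.VBPn.K134.Null
import Groth.Agent.RepF.K654.MonoLF
import Groth.Agent.Fga.RegSec
import Groth.Agent.CurvesB.HZero

/-!
# Null-correlation bundles: `0 ⟶ O(-1) ⟶ Ω(1) ⟶ M ⟶ 0` on `P^n_k`

* `nonempty_K_tensor`: `K ⊗ O(c) ≅ K`; `nonempty_M1`: `Ω ⊗ O(1) ≅ K(0)`.
* `simple_coker`: the cokernel of a monomorphism `O(-1) ⟶ Ω(1)` is simple.
* `proportional`, `nonempty_iso_of_proportional`: cokernels are isomorphic iff the maps are proportional.
* `H0_K`, `H0_coker`: no sections.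
* `exists_null`: existence for `n` odd.
-/

set_option autoImplicit false

universe u

open CategoryTheory CategoryTheory.Limits AlgebraicGeometry Opposite TopologicalSpace

namespace K134.Null2

open Groth.Agent Groth.Agent.Divis.ProjPic Groth.Agent.VarietyB.TwistMul K699.TwHom Groth.Agent.Sga67.Sec
open K699.GMat K699.LinForm K699.WronEx K699.Scalar K699.Wron K699.WronSimple K699.KerSplit
open K134.Null

attribute [local instance] Abelian.hasFiniteBiproducts

variable {n : ℕ} {k : Type u} [Field k] {m m' : ℤ}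

theorem nonempty_kernel_of_shortExact (h : m + (1 : ℕ) = m') {S : ShortComplex (Proj (gr n k)).Modules}
    (hS : S.ShortExact) (e2 : S.X₂ ≅ OO n k (Fin (n + 1)) m) (e3 : S.X₃ ≅ T n k m') :
    Nonempty (S.X₁ ≅ K n k h) := by
  obtain ⟨A, hA⟩ := exists_row h (e2.inv ≫ S.g ≫ e3.hom)
  choose a ha using fun i => exists_lf (A i)
  have hA' : e2.inv ≫ S.g ≫ e3.hom = row h fun i => lf (a i) := by
    rw [hA]
    congr 1
    exact funext ha
  have := hS.epi_g
  have hepi : Epi (row h fun i => lf (a i)) := by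
    rw [← hA']
    infer_instance
  obtain ⟨e'⟩ := nonempty_kernel_row_iso (κ := Fin 0) h a (by simp)
  have h0 : IsZero (OO n k (Fin 0) m) := by
    rw [IsZero.iff_id_eq_zero]
    exact biproduct.hom_ext _ _ fun j => j.elim0
  have e1 : S.X₁ ≅ kernel (row h fun i => lf (a i)) := by
    rw [← hA']
    exact (IsLimit.conePointUniqueUpToIso hS.fIsKernel (kernelIsKernel S.g)) ≪≫
      (kernel.mapIso S.g (e2.inv ≫ S.g ≫ e3.hom) e2 e3 (by simp))
  exact ⟨e1 ≪≫ e' ≪≫ (isoBiprodZero h0).symm⟩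

/-- `K ⊗ O(c) ≅ K`. -/
theorem nonempty_K_tensor (h : m + (1 : ℕ) = m') (c : ℤ) {p p' : ℤ} (hp : m + c = p) (hp' : m' + c = p')
    (h' : p + (1 : ℕ) = p') : Nonempty (CohB1.tensorMod (K n k h) (T n k c) ≅ K n k h') := by
  subst hp hp'
  have hS := K700.PicVan.shortExact_tensor (shortExact₂ (n := n) (k := k) h) (Gaga.H883.Serre.isInvertible_O n k c)
  refine nonempty_kernel_of_shortExact h' hS ?_ ?_
  · exact (DCoh.tensorRightMod (T n k c)).mapBiproduct (fun _ : Fin (n + 1) => T n k m) ≪≫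
      biproduct.mapIso fun _ => (Gaga.H883.Serre.O_mul n k m c).some
  · exact (Gaga.H883.Serre.O_mul n k m' c).some

theorem h01 : (0 : ℤ) + (1 : ℕ) = 1 := rfl

/-- `Ω(1)`. -/
noncomputable abbrev M1 (n : ℕ) (k : Type u) [Field k] : (Proj (gr n k)).Modules :=
  CohB1.tensorMod (Omega.sheaf (CohB1.ProjSpace.toSpec n k)) (T n k 1)

theorem nonempty_M1 (n : ℕ) (k : Type u) [Field k] : Nonempty (M1 n k ≅ K n k h01) := by
  obtain ⟨e⟩ := K699.Euler.nonempty_omega_iso n k
  obtain ⟨e'⟩ := nonempty_K_tensor (n := n) (k := k) K699.Euler.hneg 1 (by norm_num) (by norm_num) h01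
  exact ⟨Ega2.Tens.mapTIso e (Iso.refl _) ≪≫ e'⟩

theorem simple_M1 (ψ : M1 n k ⟶ M1 n k) : ∃ c : k, IsSc c ψ := by
  obtain ⟨e⟩ := nonempty_M1 n k
  exact exists_isSc_of_iso e.symm (simple_K h01) ψ

theorem ext_M1 [HasExt.{u + 1} (Proj (gr n k)).Modules] :
    Subsingleton (Abelian.Ext.{u + 1} (M1 n k) (T n k (-1)) 1) := by
  obtain ⟨e⟩ := nonempty_M1 n k
  exact K697.ExtHom.subsingleton_of_iso e.symm (Iso.refl _) (ext_K h01 (-1) (by norm_num))

theorem shortExact_coker {C : Type*} [Category C] [Abelian C] {M N : C} (u : M ⟶ N) [Mono u] :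
    (ShortComplex.mk u (cokernel.π u) (cokernel.condition u)).ShortExact where
  exact := ShortComplex.exact_cokernel u

theorem exists_lift (a' : T n k (-1) ⟶ M1 n k) [Mono a'] (f : M1 n k ⟶ cokernel a') :
    ∃ (c : k) (ψ : M1 n k ⟶ M1 n k), ψ ≫ cokernel.π a' = f ∧ IsSc c ψ := by
  have := HasExt.standard (Proj (gr n k)).Modules
  obtain ⟨ψ, hψ⟩ := K697.ExtHom.exists_lift (shortExact_coker a') ext_M1 f
  obtain ⟨c, hc⟩ := simple_M1 ψ
  exact ⟨c, ψ, hψ, hc⟩

/-- The cokernel of a monomorphism `O(-1) ⟶ Ω(1)` is simple. -/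
theorem simple_coker (u : T n k (-1) ⟶ M1 n k) [Mono u] (φ : cokernel u ⟶ cokernel u) :
    ∃ c : k, IsSc c φ := by
  obtain ⟨c, ψ, hψ, hc⟩ := exists_lift u (cokernel.π u ≫ φ)
  exact ⟨c, IsSc.of_epi (cokernel.π u) hψ.symm hc⟩

section Scal

theorem sc_mul (a b : k) (U : (Proj (gr n k)).Opens) : sc (n := n) (a * b) U = sc a U * sc b U :=
  (congrArg (Coh.resTop (Proj (gr n k)) (op U))
    (map_mul (Coh.toGlobal (X := Proj (gr n k)) (CohB1.ProjSpace.toSpec n k)) a b)).trans
    (RingHom.map_mul (Coh.resTop (Proj (gr n k)) (op U)) _ _)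

theorem sc_one (U : (Proj (gr n k)).Opens) : sc (n := n) (1 : k) U = 1 :=
  (congrArg (Coh.resTop (Proj (gr n k)) (op U))
    (map_one (Coh.toGlobal (X := Proj (gr n k)) (CohB1.ProjSpace.toSpec n k)))).trans
    (RingHom.map_one (Coh.resTop (Proj (gr n k)) (op U)))

theorem sc_zero (U : (Proj (gr n k)).Opens) : sc (n := n) (0 : k) U = 0 :=
  (congrArg (Coh.resTop (Proj (gr n k)) (op U))
    (map_zero (Coh.toGlobal (X := Proj (gr n k)) (CohB1.ProjSpace.toSpec n k)))).trans
    (RingHom.map_zero (Coh.resTop (Proj (gr n k)) (op U)))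

theorem mulMap_cst_one (m : ℤ) : mulMap (cst (n := n) (1 : k)) (h00 m) = 𝟙 (T n k m) :=
  hom_ext fun U s => by
    rw [appS_mulMap_cst, sc_one, one_smul]
    rfl

theorem mulMap_cst_zero (m : ℤ) : mulMap (cst (n := n) (0 : k)) (h00 m) = (0 : T n k m ⟶ T n k m) :=
  hom_ext fun U s => by
    rw [appS_mulMap_cst, sc_zero, zero_smul, appS_zero]

theorem id_ne_zero (m : ℤ) : 𝟙 (T n k m) ≠ 0 := by
  intro h
  rw [← mulMap_cst_one, ← mulMap_cst_zero] at h
  have h1 := congrArg Subtype.val (mulMap_injective _ h)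
  rw [cst_val, cst_val] at h1
  exact one_ne_zero (MvPolynomial.C_injective _ _ h1)

/-- Multiplication by a non zero constant. -/
noncomputable def mulIso (m : ℤ) (c : k) (hc : c ≠ 0) : T n k m ≅ T n k m where
  hom := mulMap (cst c) (h00 m)
  inv := mulMap (cst c⁻¹) (h00 m)
  hom_inv_id := hom_ext fun U s => by
    have h1 : appS (mulMap (cst c) (h00 m) ≫ mulMap (cst c⁻¹) (h00 m)) U s =
      appS (mulMap (cst c⁻¹) (h00 m)) U (appS (mulMap (cst c) (h00 m)) U s) := rfl
    rw [h1, appS_mulMap_cst, appS_mulMap_cst, ← mul_smul, ← sc_mul, inv_mul_cancel₀ hc, sc_one, one_smul]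
    rfl
  inv_hom_id := hom_ext fun U s => by
    have h1 : appS (mulMap (cst c⁻¹) (h00 m) ≫ mulMap (cst c) (h00 m)) U s =
      appS (mulMap (cst c) (h00 m)) U (appS (mulMap (cst c⁻¹) (h00 m)) U s) := rfl
    rw [h1, appS_mulMap_cst, appS_mulMap_cst, ← mul_smul, ← sc_mul, mul_inv_cancel₀ hc, sc_one, one_smul]
    rfl

/-- Isomorphic cokernels come from proportional maps. -/
theorem proportional (a a' : T n k (-1) ⟶ M1 n k) [Mono a] [Mono a'] (hE : ¬ IsZero (cokernel a))
    (θ : cokernel a ≅ cokernel a') : ∃ c : k, c ≠ 0 ∧ (SheafOfModules.toSheaf (Proj (gr n k)).ringCatSheaf).map a' =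
      (SheafOfModules.toSheaf (Proj (gr n k)).ringCatSheaf).map a ≫
      Coh.smulAb (M1 n k) (Coh.toGlobal (X := Proj (gr n k)) (CohB1.ProjSpace.toSpec n k) c) := by
  obtain ⟨c, ψ, hψ, hc⟩ := exists_lift a' (cokernel.π a ≫ θ.hom)
  have h0 : (a ≫ ψ) ≫ cokernel.π a' = 0 := by
    rw [Category.assoc, hψ, cokernel.condition_assoc, zero_comp]
  have hS := shortExact_coker a'
  have := hS.mono_f
  let s : T n k (-1) ⟶ T n k (-1) := hS.exact.lift (a ≫ ψ) h0
  have hs : s ≫ a' = a ≫ ψ := hS.exact.lift_f (a ≫ ψ) h0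
  obtain ⟨s₀, hs₀⟩ := exists_mulMap (h00 (-1)) s
  obtain ⟨d, rfl⟩ := exists_cst s₀
  have key : ∀ (U : (Proj (gr n k)).Opens) (x : Sec (T n k (-1)) U), sc d U • appS a' U x = sc c U • appS a U x := by
    intro U x
    have h1 : appS a' U (appS s U x) = appS ψ U (appS a U x) := congrArg (fun f => appS f U x) hs
    rw [hc, hs₀, appS_mulMap_cst, map_smul] at h1
    exact h1
  have hc0 : c ≠ 0 := by
    rintro rfl
    have h1 : ψ = 0 := hom_ext fun U s => by rw [hc, sc_zero, zero_smul, appS_zero]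
    rw [h1, zero_comp] at hψ
    have h2 : cokernel.π a = 0 := by
      rw [← cancel_mono θ.hom, ← hψ, zero_comp]
    exact hE (IsZero.of_epi_eq_zero _ h2)
  have hd0 : d ≠ 0 := by
    rintro rfl
    have h1 : a = 0 := hom_ext fun U x => by
      have h2 := key U x
      rw [sc_zero, zero_smul] at h2
      have h3 : sc c⁻¹ U • sc c U • appS a U x = sc c⁻¹ U • (0 : Sec (M1 n k) U) := by rw [← h2]
      rw [← mul_smul, ← sc_mul, inv_mul_cancel₀ hc0, sc_one, one_smul, smul_zero] at h3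
      rw [h3, appS_zero]
    apply id_ne_zero (n := n) (k := k) (-1)
    rw [← cancel_mono a, h1, comp_zero, comp_zero]
  refine ⟨d⁻¹ * c, mul_ne_zero (inv_ne_zero hd0) hc0, toSheaf_map_eq_comp a a' _ fun U x => ?_⟩
  rw [sc_mul, mul_smul, ← key, ← mul_smul, ← sc_mul, inv_mul_cancel₀ hd0, sc_one, one_smul]

theorem nonempty_iso_of_proportional {M : (Proj (gr n k)).Modules} (a a' : T n k m ⟶ M) (c : k) (hc : c ≠ 0)
    (h : (SheafOfModules.toSheaf (Proj (gr n k)).ringCatSheaf).map a' =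
      (SheafOfModules.toSheaf (Proj (gr n k)).ringCatSheaf).map a ≫
      Coh.smulAb M (Coh.toGlobal (X := Proj (gr n k)) (CohB1.ProjSpace.toSpec n k) c)) :
    Nonempty (cokernel a ≅ cokernel a') := by
  have h1 : a' = (mulIso m c hc).hom ≫ a := hom_ext fun U s => by
    rw [appS_of_toSheaf_map_eq a a' c h]
    have h2 : appS ((mulIso m c hc).hom ≫ a) U s = appS a U (appS (mulMap (cst c) (h00 m)) U s) := rfl
    rw [h2, appS_mulMap_cst, map_smul]
  exact ⟨(cokernelEpiComp (mulIso m c hc).hom a).symm ≪≫ cokernelIsoOfEq h1.symm⟩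

theorem not_isZero_of_rank {M : (Proj (gr n k)).Modules} {r : ℕ} (hr : r ≠ 0) (h : FlatMod.IsFinLocFreeOfRank r M) :
    ¬ IsZero M := by
  intro hM
  have h0 : IsZero (OO n k (Fin 0) 0) := by
    rw [IsZero.iff_id_eq_zero]
    exact biproduct.hom_ext _ _ fun j => j.elim0
  have h1 : FlatMod.IsFinLocFreeOfRank 0 M :=
    Krr.H487.KerRank.isFinLocFreeOfRank_of_iso (h0.iso hM) (K699.RankOO.rank_OO (by simp) 0)
  have : Nonempty (Proj (gr n k)) := ⟨pt (n := n) (k := k) (fun _ => 1) (fun h => one_ne_zero (congrFun h 0))⟩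
  exact hr (Krr.H487.KerRank.rank_unique h h1)

end Scal

section HZ

/-- `H⁰(K(0)) = 0`. -/
theorem H0_K (n : ℕ) (k : Type u) [Field k] : Subsingleton (Coh.HH (Proj (gr n k)) (K n k h01) 0) := by
  let e := CurvesB.HZero.equivAdd (K n k h01)
  have key : ∀ s : Sec (K n k h01) ⊤, s = 0 := by
    intro s
    apply injective_of_mono (kernel.ι (row h01 (xf (n := n) (R := k)))) ⊤
    let w : Sec (OO n k (Fin (n + 1)) 0) ⊤ := appS (kernel.ι (row h01 (xf (n := n) (R := k)))) ⊤ s
    have hw : appS (row h01 (xf (n := n) (R := k))) ⊤ w = 0 :=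
      (congrArg (fun f => appS f ⊤ s) (kernel.condition (row h01 (xf (n := n) (R := k))))).trans (appS_zero _ _)
    have hc : ∀ i, ∃ c : k, ∀ (x : ProjectiveSpectrum (gr n k)) (hx : x ∈ (⊤ : (Proj (gr n k)).Opens)),
        val w x hx i = al x (MvPolynomial.C c) := by
      intro i
      obtain ⟨a, ha⟩ := exists_poly (n := n) (R := k) (d := 0) (appS (pr 0 i) ⊤ w)
      obtain ⟨c, rfl⟩ := exists_cst a
      exact ⟨c, ha⟩
    choose c hc using hc
    let x : ProjectiveSpectrum (gr n k) := pt (fun _ => 1) (fun h => one_ne_zero (congrFun h 0))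
    have h1 : evT (appS (row h01 (xf (n := n) (R := k))) ⊤ w) x trivial = 0 := by
      rw [hw]
      rfl
    rw [evT_row] at h1
    have h2 : al x (lf (n := n) c).1 = 0 := by
      rw [lf_val, map_sum, ← h1]
      refine Finset.sum_congr rfl fun i _ => ?_
      rw [hc, map_mul, mul_comm]
      rfl
    have h3 : (lf (n := n) c).1 = (lf (n := n) (0 : Fin (n + 1) → k)).1 := by
      have h4 := al_injective x (h2.trans (map_zero (al x)).symm)
      rw [h4]
      simp
    have h5 := lf_injective h3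
    refine (val_ext fun y hy i => ?_ : w = 0).trans (map_zero _).symm
    rw [hc, h5]
    refine ((congrArg (al y) MvPolynomial.C_0).trans (map_zero _)).trans ?_
    exact (congrArg (fun t => evT t y hy) (map_zero (appS (pr 0 i) ⊤))).symm
  exact ⟨fun a b => e.injective ((key (e a)).trans (key (e b)).symm)⟩

theorem H0_M1 (n : ℕ) (k : Type u) [Field k] : Subsingleton (Coh.HH (Proj (gr n k)) (M1 n k) 0) := by
  obtain ⟨e⟩ := nonempty_M1 n k
  exact Gaga.H883.Serre.HH_congr e.symm 0 (H0_K n k)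

theorem H0_coker (u : T n k (-1) ⟶ M1 n k) [Mono u] :
    Subsingleton (Coh.HH (Proj (gr n k)) (cokernel u) 0) :=
  Gaga.H883.Serre.subsingleton_right (shortExact_coker u) 0 (H0_M1 n k)
    (S0844.result k n (-1) 1 (by omega) (by omega))

end HZ

end K134.Null2
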