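import Groth.Agent.VBPn.K134.Null2
import Groth.Agent.ASBun.K791.Tens

/-!
# Restriction of the cokernel of `O(-1) ⟶ Ω(1)` to a hyperplane
-/

set_option autoImplicit false

universe u

open CategoryTheory CategoryTheory.Limits AlgebraicGeometry Opposite TopologicalSpace

namespace K134.Null4

open Groth.Agent Groth.Agent.Divis.ProjPic Groth.Agent.VarietyB.TwistMul K699.TwHom Groth.Agent.Sga67.Sec
open K699.GMat K699.LinForm K699.WronEx K699.Scalar K699.Wron K699.WronSimple K699.KerSplit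
open K134.Null K134.Null2

attribute [local instance] Abelian.hasFiniteBiproducts

variable {m n : ℕ} {k : Type u} [Field k]

theorem not_subsingleton_H0_O (m : ℕ) (k : Type u) [Field k] :
    ¬ Subsingleton (Coh.HH (Proj (gr m k)) (Coh.structureModule (Proj (gr m k))) 0) := by
  intro h
  have : Nonempty (Proj (gr m k)) := ⟨pt (n := m) (k := k) (fun _ => 1) (fun h => one_ne_zero (congrFun h 0))⟩
  have h1 := (CurvesB.HZero.equivO (Proj (gr m k))).symm.injective.subsingleton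
  have h2 : Nontrivial Γ(Proj (gr m k), ⊤) := by
    have : Nonempty (⊤ : (Proj (gr m k)).Opens) := ⟨⟨this.some, trivial⟩⟩
    infer_instance
  exact not_subsingleton _ h1

theorem H0_biproduct_neg (m : ℕ) (hm : m ≠ 0) (k : Type u) [Field k] (ι : Type) [Finite ι] :
    Subsingleton (Coh.HH (Proj (gr m k)) (OO m k ι (-1)) 0) :=
  Fga.HShift.subsingleton_of_iso (biproduct.isoCoproduct _).symm 0
    (Fga.HShift.subsingleton_coproduct _ 0 fun _ => S0844.result k m (-1) 0 (by omega) (by omega))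

section

variable (i : Proj (gr m k) ⟶ Proj (gr n k))
  (hO : Nonempty ((Scheme.Modules.pullback i).obj (T n k 1) ≅ T m k 1))

include hO

/-- `H⁰(i^* Ω) = 0`. -/
theorem H0_pullback_omega (hm : m ≠ 0) :
    Subsingleton (Coh.HH (Proj (gr m k)) ((Scheme.Modules.pullback i).obj
      (Omega.sheaf (CohB1.ProjSpace.toSpec n k))) 0) := by
  obtain ⟨a, ha, ⟨e⟩⟩ := K699.Euler.exists_row_omega i hO
  exact Gaga.H883.Serre.HH_congr e.symm 0
    (K700.KosVan.subsingleton_zero_of_mono (kernel.ι (row K699.Euler.hneg fun i => lf (a i)))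
      (H0_biproduct_neg m hm k _))

/-- `i^* (Ω(1)) ≅ i^*Ω ⊗ O(1)`. -/
theorem nonempty_pullback_M1 : Nonempty ((Scheme.Modules.pullback i).obj (M1 n k) ≅
    CohB1.tensorMod ((Scheme.Modules.pullback i).obj (Omega.sheaf (CohB1.ProjSpace.toSpec n k))) (T m k 1)) := by
  obtain ⟨e⟩ := hO
  exact ⟨ASBun.K791.Tens.pullTens i _ _ ≪≫ Ega2.Tens.mapTIso (Iso.refl _) e⟩

variable (u : T n k (-1) ⟶ M1 n k) [Mono u] (hM : FlatMod.IsFinLocFree (cokernel u))

include hM

theorem H0_restrict_neg (hm : 2 ≤ m) : Subsingleton (Coh.HH (Proj (gr m k))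
    (CohB1.tensorMod ((Scheme.Modules.pullback i).obj (cokernel u)) (T m k (-1))) 0) := by
  have hS := Krr.H496.PullK0.shortExact_pullback_of_isFinLocFree i (shortExact_coker u) hM
  have hS' := K700.PicVan.shortExact_tensor hS (Gaga.H883.Serre.isInvertible_O m k (-1))
  refine Gaga.H883.Serre.subsingleton_right hS' 0 ?_ ?_
  · obtain ⟨e⟩ := nonempty_pullback_M1 i hO
    obtain ⟨e1⟩ := Gaga.H883.Serre.O_mul m k 1 (-1)
    obtain ⟨e0⟩ := Gaga.H883.Serre.O_zero m k
    let Ω' := (Scheme.Modules.pullback i).obj (Omega.sheaf (CohB1.ProjSpace.toSpec n k))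
    have e2 : CohB1.tensorMod ((Scheme.Modules.pullback i).obj (M1 n k)) (T m k (-1)) ≅ Ω' :=
      Ega2.Tens.mapTIso e (Iso.refl _) ≪≫ Ega2.Tens.assoc _ _ _ ≪≫
        Ega2.Tens.mapTIso (Iso.refl Ω') (e1 ≪≫ e0) ≪≫ Ega2.Tens.runit Ω'
    exact Gaga.H883.Serre.HH_congr e2.symm 0 (H0_pullback_omega i hO (by omega))
  · obtain ⟨e⟩ := K699.Euler.nonempty_pull_twist i hO (-1)
    obtain ⟨e1⟩ := Gaga.H883.Serre.O_mul m k (-1) (-1)
    have e2 : CohB1.tensorMod ((Scheme.Modules.pullback i).obj (T n k (-1))) (T m k (-1)) ≅ T m k (-1 + -1) :=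
      Ega2.Tens.mapTIso e (Iso.refl _) ≪≫ e1
    exact Gaga.H883.Serre.HH_congr e2.symm 1 (S0844.result k m _ 1 (by omega) (by omega))

theorem H0_restrict (hm : 2 ≤ m) (hmn : n = m + 1) :
    Nontrivial (Coh.HH (Proj (gr m k)) ((Scheme.Modules.pullback i).obj (cokernel u)) 0) := by
  by_contra hc
  rw [not_nontrivial_iff_subsingleton] at hc
  have hS := Krr.H496.PullK0.shortExact_pullback_of_isFinLocFree i (shortExact_coker u) hM
  have h1 : Subsingleton (Coh.HH (Proj (gr m k)) ((Scheme.Modules.pullback i).obj (T n k (-1))) 0) := by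
    obtain ⟨e⟩ := K699.Euler.nonempty_pull_twist i hO (-1)
    exact Gaga.H883.Serre.HH_congr e.symm 0 (S0844.result k m _ 0 (by omega) (by omega))
  have h2 : Subsingleton (Coh.HH (Proj (gr m k)) ((Scheme.Modules.pullback i).obj (M1 n k)) 0) :=
    Fga.HShift.subsingleton₂ hS 0 h1 hc
  obtain ⟨e⟩ := nonempty_pullback_M1 i hO
  obtain ⟨e'⟩ := K699.Euler.nonempty_pullback_omega_iso i hO (Fin 1) (by simpa using hmn)
  obtain ⟨e1⟩ := Gaga.H883.Serre.O_mul m k (-1) 1
  obtain ⟨e0⟩ := Gaga.H883.Serre.O_zero m k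
  let Ω' := Omega.sheaf (CohB1.ProjSpace.toSpec m k)
  have h3 := Gaga.H883.Serre.HH_congr (e ≪≫ Ega2.Tens.mapTIso e' (Iso.refl (T m k 1))) 0 h2
  -- `O(-1) ⟶ Ω ⊞ O(-1)` is split
  let s : T m k (-1) ⟶ Ω' ⊞ OO m k (Fin 1) (-1) := inc (-1) 0 ≫ biprod.inr
  let r : Ω' ⊞ OO m k (Fin 1) (-1) ⟶ T m k (-1) := biprod.snd ≫ pr (-1) 0
  have hsr : s ≫ r = 𝟙 _ := by
    change (inc (-1) 0 ≫ biprod.inr) ≫ biprod.snd ≫ pr (-1) 0 = 𝟙 _
    rw [Category.assoc, biprod.inr_snd_assoc, biproduct.ι_π_self]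
  have h4 : Mono ((DCoh.tensorRightMod (T m k 1)).map s) := by
    have : IsSplitMono ((DCoh.tensorRightMod (T m k 1)).map s) :=
      ⟨⟨(DCoh.tensorRightMod (T m k 1)).map r, by rw [← Functor.map_comp, hsr, CategoryTheory.Functor.map_id]⟩⟩
    infer_instance
  have h5 := @K700.KosVan.subsingleton_zero_of_mono _ _ _ ((DCoh.tensorRightMod (T m k 1)).map s) h4 h3
  exact not_subsingleton_H0_O m k (Gaga.H883.Serre.HH_congr (e1 ≪≫ e0) 0 h5)

end

end K134.Null4
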